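import Mathlib.AlgebraicGeometry.Noetherian
import Mathlib.AlgebraicGeometry.Pullbacks
import Mathlib.RingTheory.Localization.Submodule
import Mathlib.RingTheory.EssentialFiniteness
import Mathlib.RingTheory.RingHom.EssFiniteType
import Mathlib.RingTheory.Flat.FaithfullyFlat.Algebra
import Mathlib.FieldTheory.IntermediateField.Adjoin.Algebra

/-!
Local Noetherianity and base change along a finitely generated field extension.
-/

set_option autoImplicit false
set_option linter.style.haveILetI false
set_option backward.isDefEq.respectTransparency false
set_option backward.isDefEq.respectTransparency.types false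
universe u

open CategoryTheory CategoryTheory.Limits AlgebraicGeometry TensorProduct

namespace Groth.Agent.Var44

theorem noetherian_iff_tensor (k R K : Type u) [Field k] [CommRing R] [Algebra k R] [Field K] [Algebra k K]
    [Algebra.EssFiniteType k K] : IsNoetherianRing R ↔ IsNoetherianRing (R ⊗[k] K) := by
  constructor
  · intro h
    exact Algebra.EssFiniteType.isNoetherianRing R (R ⊗[k] K)
  · intro h
    rw [isNoetherianRing_iff, isNoetherian_iff']
    exact StrictMono.wellFoundedGT (f := Ideal.map (algebraMap R (R ⊗[k] K)))
      (Monotone.strictMono_of_injective (fun _ _ h => Ideal.map_mono h)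
        (Function.LeftInverse.injective (g := Ideal.comap (algebraMap R (R ⊗[k] K)))
          fun I => Ideal.comap_map_eq_self_of_faithfullyFlat I))

theorem isLocallyNoetherian_congr {X Y : Scheme.{u}} (e : X ≅ Y) :
    IsLocallyNoetherian X ↔ IsLocallyNoetherian Y :=
  ⟨fun _ => isLocallyNoetherian_of_isOpenImmersion e.inv, fun _ => isLocallyNoetherian_of_isOpenImmersion e.hom⟩

theorem key (k K : Type u) [Field k] [Field K] [Algebra k K] [Algebra.EssFiniteType k K]
    (R : CommRingCat.{u}) (s : Spec R ⟶ Spec (CommRingCat.of k)) :
    IsLocallyNoetherian (Spec R) ↔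
      IsLocallyNoetherian (pullback s (Spec.map (CommRingCat.ofHom (algebraMap k K)))) := by
  obtain ⟨φ, rfl⟩ := Spec.map_surjective s
  algebraize [φ.hom]
  exact isLocallyNoetherian_Spec.trans ((noetherian_iff_tensor k R K).trans
    (isLocallyNoetherian_Spec.symm.trans (isLocallyNoetherian_congr (pullbackSpecIso k R K)).symm))

theorem isLocallyNoetherian_bc_iff (k K : Type u) [Field k] [Field K] [Algebra k K] [Algebra.EssFiniteType k K]
    {X : Scheme.{u}} (f : X ⟶ Spec (CommRingCat.of k)) :
    IsLocallyNoetherian X ↔
      IsLocallyNoetherian (pullback f (Spec.map (CommRingCat.ofHom (algebraMap k K)))) := by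
  rw [isLocallyNoetherian_iff_openCover X.affineCover,
    isLocallyNoetherian_iff_openCover (Scheme.Pullback.openCoverOfLeft X.affineCover f
      (Spec.map (CommRingCat.ofHom (algebraMap k K))))]
  exact forall_congr' fun i => key k K _ (X.affineCover.f i ≫ f)

end Groth.Agent.Var44
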