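import Groth.Prelude.Def_Curv2
import Groth.Agent.Crv77.SepPoint
import Groth.Agent.S1537
import Groth.Agent.SGA3a.SmoothWeil
import Groth.Agent.AlgGrp79.ProdDense
import Mathlib.AlgebraicGeometry.Geometrically.Integral
import Mathlib.AlgebraicGeometry.Morphisms.SchemeTheoreticallyDominant

/-!
A variety with a smooth rational point is geometrically integral.
-/

set_option autoImplicit false
set_option linter.style.haveILetI false
set_option backward.isDefEq.respectTransparency false
set_option backward.isDefEq.respectTransparency.types false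
universe u

open CategoryTheory CategoryTheory.Limits AlgebraicGeometry

namespace Groth.Agent.Var44

theorem geometricallyIntegral_of_open {k : Type u} [Field k] {X W : Scheme.{u}} [IsIntegral X] (i : W ⟶ X)
    [IsDominant i] [QuasiCompact i] (f : X ⟶ Spec (CommRingCat.of k))
    [GeometricallyIntegral (i ≫ f)] : GeometricallyIntegral f := by
  refine ⟨fun K _ y Z a b h => ?_⟩
  haveI : Flat y := inferInstance
  haveI : Flat a := MorphismProperty.of_isPullback (P := @Flat) h.flip ‹Flat y›
  haveI : IsSchemeTheoreticallyDominant i := .of_isDominant i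
  have hsq := IsPullback.of_hasPullback i a
  haveI : IsSchemeTheoreticallyDominant (pullback.snd i a) := inferInstance
  haveI : QuasiCompact (pullback.snd i a) := inferInstance
  haveI : IsIntegral (pullback i a) :=
    GeometricallyIntegral.geometrically_isIntegral (f := i ≫ f) y _ _ (hsq.paste_vert h)
  haveI : IsReduced Z := IsSchemeTheoreticallyDominant.isReduced (pullback.snd i a)
  haveI : IrreducibleSpace ↥Z := by
    have h1 := (IrreducibleSpace.isIrreducible_univ ↥(pullback i a)).image (pullback.snd i a)
      (pullback.snd i a).continuous.continuousOn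
    have h2 := h1.closure
    rw [Set.image_univ, (pullback.snd i a).denseRange.closure_range] at h2
    exact irreducibleSpace_def _ |>.2 h2
  exact isIntegral_of_irreducibleSpace_of_isReduced Z

theorem geometricallyIntegral_of_smooth_connected {K : Type u} [Field K] {X : Scheme.{u}}
    (p : X ⟶ Spec (CommRingCat.of K)) [Smooth p] [GeometricallyConnected p] : GeometricallyIntegral p :=
  ⟨fun L _ y Z a b h => by
    have : Smooth b := MorphismProperty.of_isPullback (P := @Smooth) h inferInstance
    have : ConnectedSpace ↥Z := GeometricallyConnected.geometrically_connectedSpace (f := p) y a b h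
    have : IrreducibleSpace ↥Z := SGA3a.irreducibleSpace_of_smooth_connected b
    have : GeometricallyReduced b := AlgGrp79.geometricallyReduced_of_smooth b
    have : IsReduced Z :=
      GeometricallyReduced.geometrically_isReduced (f := b) (𝟙 _) (𝟙 _) b (IsPullback.of_horiz_isIso ⟨by simp⟩)
    exact isIntegral_of_irreducibleSpace_of_isReduced Z⟩

theorem geometricallyIntegral_of_smooth_ratPoint {k : Type u} [Field k] {X : Scheme.{u}}
    [X.Over (Spec (CommRingCat.of k))] [IsIntegral X]
    [LocallyOfFiniteType (X ↘ (Spec (CommRingCat.of k)))] (x : ↥X)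
    (hx : Function.Surjective (Curv2.resMap k X x))
    (hsm : x ∈ (X ↘ (Spec (CommRingCat.of k))).smoothLocus) :
    GeometricallyIntegral (X ↘ (Spec (CommRingCat.of k))) := by
  let s := X ↘ (Spec (CommRingCat.of k))
  let U : X.Opens := s.smoothLocus
  letI : (U : Scheme.{u}).Over (Spec (CommRingCat.of k)) := ⟨U.ι ≫ s⟩
  haveI : Nonempty U := ⟨⟨x, hsm⟩⟩
  haveI : Smooth (U.ι ≫ s) := by
    rw [← Scheme.Hom.smoothLocus_eq_top_iff, ← Scheme.Hom.preimage_smoothLocus_eq]
    exact Scheme.Opens.ι_preimage_self _
  haveI : IsIntegral (U : Scheme.{u}) := inferInstance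
  let v : (U : Scheme.{u}) := ⟨x, hsm⟩
  have hv : Function.Surjective (Curv2.resMap k U v) := fun a => by
    have hs : Function.Surjective (U.ι.residueFieldMap v) :=
      (asIso (U.ι.residueFieldMap v)).commRingCatIsoToRingEquiv.surjective
    obtain ⟨b, rfl⟩ := hs a
    obtain ⟨c, rfl⟩ := hx b
    exact ⟨c, (Crv77.residueFieldMap_resMap U.ι rfl v c).symm⟩
  haveI : GeometricallyConnected (U.ι ≫ s) :=
    S1537.result k (U : Scheme.{u}) v fun a _ => hv a
  haveI : GeometricallyIntegral (U.ι ≫ s) := geometricallyIntegral_of_smooth_connected _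
  haveI : IsLocallyNoetherian X := LocallyOfFiniteType.isLocallyNoetherian s
  haveI : IsDominant U.ι := ⟨by
    rw [DenseRange, Scheme.Opens.range_ι]
    exact U.2.dense ⟨x, hsm⟩⟩
  exact geometricallyIntegral_of_open U.ι s

end Groth.Agent.Var44
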