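import Groth.Agent.E4O.ChartDim
import Groth.Agent.E4O.OpenMapDims
import Groth.Agent.AffNorm62.FibreGeneric
import Groth.Agent.AffNorm62.OpenTarget
import Groth.Agent.S3394
import Groth.Agent.S3395

/-!
A quasi-finite map of a neighbourhood of a point to affine space of the fibre dimension.
-/

set_option autoImplicit false
set_option linter.style.haveILetI false
set_option backward.isDefEq.respectTransparency false
set_option backward.isDefEq.respectTransparency.types false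
universe u

open CategoryTheory CategoryTheory.Limits AlgebraicGeometry

namespace Groth.Agent.Var44

open E4O

theorem exists_qf_chart {X S : Scheme.{u}} (f : X ⟶ S) [LocallyOfFiniteType f] (x : ↥X)
    (V : S.Opens) (hV : IsAffineOpen V) (hxV : f x ∈ V) (d : ℕ) (hd : FlatMor.fibreDimAt f x = d) :
    ∃ (U : X.Opens), IsAffineOpen U ∧ x ∈ U ∧
      ∃ (g : (U : Scheme.{u}) ⟶ (V : Scheme.{u})) (π : (U : Scheme.{u}) ⟶ 𝔸(ULift.{u} (Fin d); (V : Scheme.{u}))),
        g ≫ V.ι = U.ι ≫ f ∧ π ≫ (𝔸(ULift.{u} (Fin d); (V : Scheme.{u})) ↘ (V : Scheme.{u})) = g ∧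
          LocallyQuasiFinite π ∧ LocallyOfFiniteType π := by
  obtain ⟨W, hW, hxW, hWsub⟩ := exists_isAffineOpen_mem_and_subset (x := x)
    (U := (⟨_, isOpen_fibreDimAt_le f d⟩ : X.Opens) ⊓ f ⁻¹ᵁ V) ⟨hd.le, hxV⟩
  have : IsAffine W := hW
  have : IsAffine V := hV
  have hWV : W ≤ f ⁻¹ᵁ V := fun a ha => (hWsub ha).2
  let fW : (W : Scheme.{u}) ⟶ V := f.resLE V W hWV
  have hfW : fW ≫ V.ι = W.ι ≫ f := Scheme.Hom.resLE_comp_ι _ _
  have : LocallyOfFiniteType (fW ≫ V.ι) := by rw [hfW]; infer_instance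
  have : LocallyOfFiniteType fW := locallyOfFiniteType_of_comp fW V.ι
  have hfd : ∀ w, fdeg fW w = fdeg f (W.ι w) := fun w => by
    have h1 := congrArg (fun k => fdeg k w) hfW
    simp only [fdeg_comp_openImmersion] at h1
    rw [← h1]
    exact (AffNorm62.fdeg_comp_right_openImmersion fW V.ι w).symm
  let x0 : (W : Scheme.{u}) := ⟨x, hxW⟩
  have he : topologicalKrullDim ↥(fW.fiber (fW x0)) = d := by
    refine le_antisymm ((dim_fiber_le_iff _ _ _).2 fun w _ => ?_) ?_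
    · rw [hfd]
      exact (fdeg_le_fibreDimAt specializes_rfl rfl).trans (hWsub w.2).1
    · obtain ⟨a, hax, hfa, ha, -⟩ := exists_fibreDimAt_eq f x
      let a0 : (W : Scheme.{u}) := ⟨a, hax.mem_open W.isOpen hxW⟩
      have h1 := le_dim_fiber fW a0
      have h2 : fW a0 = fW x0 := V.ι.isOpenEmbedding.injective (by
        erw [← Scheme.Hom.comp_apply, ← Scheme.Hom.comp_apply, hfW]
        exact hfa)
      rw [hfd, h2] at h1
      exact (hd.symm.trans ha).le.trans h1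
  obtain ⟨g0, hg0, hfin⟩ := S3394.result fW (fW x0) ⟨x0, rfl⟩ d he
  obtain ⟨-, U', hU', hqf⟩ := S3395.result fW (fW x0) ⟨x0, rfl⟩ d he g0 hg0 hfin
  obtain ⟨U'', hU''a, hx'', hU''sub⟩ := exists_isAffineOpen_mem_and_subset (x := x0) (U := U') (hU' rfl)
  let T : X.Opens := W.ι ''ᵁ U''
  let π : (T : Scheme.{u}) ⟶ 𝔸(ULift.{u} (Fin d); (V : Scheme.{u})) := (W.ι.isoImage U'').inv ≫ U''.ι ≫ g0
  have hq : LocallyQuasiFinite (U''.ι ≫ g0) := by
    have e : U''.ι = ((W : Scheme.{u}).homOfLE hU''sub) ≫ U'.ι := (Scheme.homOfLE_ι _ _).symm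
    rw [e, Category.assoc]
    infer_instance
  have : LocallyOfFiniteType (g0 ≫ (𝔸(ULift.{u} (Fin d); (V : Scheme.{u})) ↘ (V : Scheme.{u}))) := by
    rw [hg0]; infer_instance
  have : LocallyOfFiniteType g0 :=
    locallyOfFiniteType_of_comp g0 (𝔸(ULift.{u} (Fin d); (V : Scheme.{u})) ↘ (V : Scheme.{u}))
  refine ⟨T, hU''a.image_of_isOpenImmersion W.ι, ⟨x0, hx'', rfl⟩, _, π, ?_, rfl, inferInstance, inferInstance⟩
  simp only [π, Category.assoc]
  erw [reassoc_of% hg0, hfW, Scheme.Hom.isoImage_inv_ι_assoc]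

end Groth.Agent.Var44
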