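import Mathlib.AlgebraicGeometry.Morphisms.Flat
import Mathlib.AlgebraicGeometry.Morphisms.Affine
import Mathlib.RingTheory.FiniteType
import Mathlib.RingTheory.Adjoin.FG

/-!
A quasi-compact open of a base change to an algebra descends to a finitely generated subalgebra.
-/

set_option autoImplicit false
set_option linter.style.haveILetI false
set_option backward.isDefEq.respectTransparency false
set_option backward.isDefEq.respectTransparency.types false
universe u

open CategoryTheory CategoryTheory.Limits AlgebraicGeometry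

namespace Groth.Agent.Var44

variable {k A : Type u} [CommRing k] [CommRing A] [Algebra k A] {X : Scheme.{u}}
  (f : X ⟶ Spec (CommRingCat.of k))

/-- The base change to a subalgebra. -/
noncomputable abbrev bcSub (R : Subalgebra k A) : Scheme.{u} :=
  pullback f (Spec.map (CommRingCat.ofHom (algebraMap k ↥R)))

/-- The transition map to a subalgebra. -/
noncomputable def toSub (R : Subalgebra k A) :
    pullback f (Spec.map (CommRingCat.ofHom (algebraMap k A))) ⟶ bcSub f R :=
  pullback.lift (pullback.fst _ _) (pullback.snd _ _ ≫ Spec.map (CommRingCat.ofHom R.val.toRingHom)) (by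
    rw [pullback.condition, Category.assoc, ← Spec.map_comp, ← CommRingCat.ofHom_comp]
    exact congrArg (fun m => pullback.snd _ _ ≫ Spec.map (CommRingCat.ofHom m)) R.val.comp_algebraMap.symm)

/-- The transition map between subalgebras. -/
noncomputable def subToSub {R R' : Subalgebra k A} (h : R ≤ R') : bcSub f R' ⟶ bcSub f R :=
  pullback.lift (pullback.fst _ _) (pullback.snd _ _ ≫
    Spec.map (CommRingCat.ofHom (Subalgebra.inclusion h).toRingHom)) (by
    rw [pullback.condition, Category.assoc, ← Spec.map_comp, ← CommRingCat.ofHom_comp]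
    exact congrArg (fun m => pullback.snd _ _ ≫ Spec.map (CommRingCat.ofHom m))
      (Subalgebra.inclusion h).comp_algebraMap.symm)

theorem toSub_comp {R R' : Subalgebra k A} (h : R ≤ R') : toSub f R' ≫ subToSub f h = toSub f R := by
  apply pullback.hom_ext
  · simp [toSub, subToSub]
  · simp only [toSub, subToSub, Category.assoc, pullback.lift_snd, pullback.lift_snd_assoc]
    rw [← Spec.map_comp, ← CommRingCat.ofHom_comp]
    rfl

instance isAffineHom_subToSub {R R' : Subalgebra k A} (h : R ≤ R') : IsAffineHom (subToSub f h) := by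
  have sq : IsPullback (subToSub f h) (pullback.snd f _) (pullback.snd f _)
      (Spec.map (CommRingCat.ofHom (Subalgebra.inclusion h).toRingHom)) := by
    refine IsPullback.of_right (h₁₂ := pullback.fst f _) (v₁₃ := f)
      (h₂₂ := Spec.map (CommRingCat.ofHom (algebraMap k ↥R))) ?_ (pullback.lift_snd _ _ _)
      (IsPullback.of_hasPullback _ _)
    rw [subToSub, pullback.lift_fst, ← Spec.map_comp, ← CommRingCat.ofHom_comp]
    rw [show ((Subalgebra.inclusion h).toRingHom).comp (algebraMap k ↥R) = algebraMap k ↥R' from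
      (Subalgebra.inclusion h).comp_algebraMap]
    exact IsPullback.of_hasPullback _ _
  exact MorphismProperty.of_isPullback (P := @IsAffineHom) sq.flip inferInstance

/-- The opens that come from some finitely generated subalgebra. -/
def Descends (V : Set ↥(pullback f (Spec.map (CommRingCat.ofHom (algebraMap k A))))) : Prop :=
  ∃ R : Subalgebra k A, R.FG ∧ ∃ V' : Set ↥(bcSub f R), IsOpen V' ∧ IsCompact V' ∧ (toSub f R).base ⁻¹' V' = V

theorem descends_union {V W} (hV : Descends (A := A) f V) (hW : Descends f W) : Descends f (V ∪ W) := by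
  obtain ⟨R, hR, V', ho, hc, rfl⟩ := hV
  obtain ⟨R', hR', W', ho', hc', rfl⟩ := hW
  refine ⟨R ⊔ R', hR.sup hR', (subToSub f le_sup_left).base ⁻¹' V' ∪ (subToSub f le_sup_right).base ⁻¹' W',
    (ho.preimage (Scheme.Hom.continuous _)).union (ho'.preimage (Scheme.Hom.continuous _)),
    (QuasiCompact.isCompact_preimage _ ho hc).union (QuasiCompact.isCompact_preimage _ ho' hc'), ?_⟩
  ext z
  simp only [Set.mem_preimage, Set.mem_union, ← Scheme.Hom.comp_apply, toSub_comp]

theorem exists_descends_mem (V : Set ↥(pullback f (Spec.map (CommRingCat.ofHom (algebraMap k A)))))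
    (hV : IsOpen V) (z : ↥(pullback f (Spec.map (CommRingCat.ofHom (algebraMap k A))))) (hz : z ∈ V) :
    ∃ U, z ∈ U ∧ IsOpen U ∧ U ⊆ V ∧ Descends f U := by
  let p := pullback.fst f (Spec.map (CommRingCat.ofHom (algebraMap k A)))
  let s := pullback.snd f (Spec.map (CommRingCat.ofHom (algebraMap k A)))
  obtain ⟨W, hW, hzW, -⟩ := exists_isAffineOpen_mem_and_subset (x := p z) (U := (⊤ : X.Opens)) trivial
  haveI : IsAffineHom p := MorphismProperty.pullback_fst _ _ inferInstance
  let E := p ⁻¹ᵁ W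
  obtain ⟨h, hh, hzh⟩ := (hW.preimage p).exists_basicOpen_le (V := ⟨V, hV⟩) ⟨z, hz⟩ hzW
  let q := fun R : Subalgebra k A => pullback.fst f (Spec.map (CommRingCat.ofHom (algebraMap k ↥R)))
  haveI : ∀ R, IsAffineHom (q R) := fun R => MorphismProperty.pullback_fst _ _ inferInstance
  have hle : ∀ R, E ≤ toSub f R ⁻¹ᵁ (q R ⁻¹ᵁ W) := fun R => by
    rw [← Scheme.Hom.comp_preimage, show toSub f R ≫ q R = p from pullback.lift_fst _ _ _]
  let ρ : ∀ R : Subalgebra k A, Γ(bcSub f R, q R ⁻¹ᵁ W) ⟶ Γ(_, E) := fun R => (toSub f R).appLE _ E (hle R)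
  have hmono : ∀ {R R' : Subalgebra k A}, R ≤ R' → ∀ x, x ∈ Set.range (ρ R) → x ∈ Set.range (ρ R') := by
    rintro R R' hRR' _ ⟨a, rfl⟩
    have hle' : q R' ⁻¹ᵁ W ≤ subToSub f hRR' ⁻¹ᵁ (q R ⁻¹ᵁ W) := by
      rw [← Scheme.Hom.comp_preimage, show subToSub f hRR' ≫ q R = q R' from pullback.lift_fst _ _ _]
    refine ⟨(subToSub f hRR').appLE _ _ hle' a, ?_⟩
    change ((subToSub f hRR').appLE _ _ hle' ≫ ρ R') a = ρ R a
    simp only [ρ, Scheme.Hom.appLE_comp_appLE, toSub_comp]
  let T : Subring Γ(_, E) :=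
    { carrier := {x | ∃ R : Subalgebra k A, R.FG ∧ x ∈ Set.range (ρ R)}
      zero_mem' := ⟨⊥, Subalgebra.fg_bot, 0, map_zero _⟩
      one_mem' := ⟨⊥, Subalgebra.fg_bot, 1, map_one _⟩
      add_mem' := fun ⟨R, hR, ha⟩ ⟨R', hR', hb⟩ => by
        obtain ⟨a, rfl⟩ := hmono (le_sup_left : R ≤ R ⊔ R') _ ha
        obtain ⟨b, rfl⟩ := hmono (le_sup_right : R' ≤ R ⊔ R') _ hb
        exact ⟨R ⊔ R', hR.sup hR', a + b, map_add _ _ _⟩
      mul_mem' := fun ⟨R, hR, ha⟩ ⟨R', hR', hb⟩ => by
        obtain ⟨a, rfl⟩ := hmono (le_sup_left : R ≤ R ⊔ R') _ ha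
        obtain ⟨b, rfl⟩ := hmono (le_sup_right : R' ≤ R ⊔ R') _ hb
        exact ⟨R ⊔ R', hR.sup hR', a * b, map_mul _ _ _⟩
      neg_mem' := fun ⟨R, hR, a, ha⟩ => ⟨R, hR, -a, by rw [map_neg, ha]⟩ }
  have hT : T = ⊤ := by
    have H := IsPullback.of_hasPullback f (Spec.map (CommRingCat.ofHom (algebraMap k A)))
    have hUY : E = p ⁻¹ᵁ W ⊓ s ⁻¹ᵁ ⊤ := by simp [E]
    have hiso := isIso_pushoutSection_of_isAffineOpen H (US := ⊤) (UT := ⊤) (UX := W) (by simp) (by simp) hUY
      (isAffineOpen_top _) (isAffineOpen_top _) hW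
    have po := (isIso_pushoutSection_iff H (US := ⊤) (UT := ⊤) (UX := W) (by simp) (by simp) hUY).1 hiso
    have hX : ∀ a, p.appLE W E le_rfl a ∈ T := fun a => by
      refine ⟨⊥, Subalgebra.fg_bot, (q ⊥).appLE W _ le_rfl a, ?_⟩
      change ((q ⊥).appLE W _ le_rfl ≫ ρ ⊥) a = _
      simp only [ρ, Scheme.Hom.appLE_comp_appLE, show toSub f ⊥ ≫ q ⊥ = p from pullback.lift_fst _ _ _]
    have hA : ∀ b, s.appLE ⊤ E (by simp) b ∈ T := fun b => by
      let a₀ : A := (Scheme.ΓSpecIso (CommRingCat.of A)).hom b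
      let R := Algebra.adjoin k ({a₀} : Set A)
      let ι := Spec.map (CommRingCat.ofHom R.val.toRingHom)
      let b' := (Scheme.ΓSpecIso (CommRingCat.of ↥R)).inv ⟨a₀, Algebra.subset_adjoin rfl⟩
      have hb : ι.appTop b' = b := by
        have := congrArg (fun m => m.hom (⟨a₀, Algebra.subset_adjoin rfl⟩ : ↥R))
          (Scheme.ΓSpecIso_inv_naturality (CommRingCat.ofHom R.val.toRingHom))
        refine this.symm.trans ?_
        change (Scheme.ΓSpecIso (CommRingCat.of A)).inv a₀ = b
        simp [a₀]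
      refine ⟨R, Subalgebra.fg_def.2 ⟨{a₀}, Set.finite_singleton _, rfl⟩,
        (pullback.snd f _).appLE ⊤ (q R ⁻¹ᵁ W) (by simp) b', ?_⟩
      change ((pullback.snd f _).appLE ⊤ (q R ⁻¹ᵁ W) (by simp) ≫ ρ R) b' = _
      simp only [ρ, Scheme.Hom.appLE_comp_appLE,
        show toSub f R ≫ pullback.snd f _ = s ≫ ι from pullback.lift_snd _ _ _]
      rw [← hb]
      change _ = (ι.appTop ≫ s.appLE ⊤ E (by simp)) b'
      rw [Scheme.Hom.comp_appLE]
      rfl
    rw [eq_top_iff]
    intro x _
    let m := po.desc (CommRingCat.ofHom ((p.appLE W E le_rfl).hom.codRestrict T hX))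
      (CommRingCat.ofHom ((s.appLE ⊤ E (by simp)).hom.codRestrict T hA)) (by
        refine CommRingCat.hom_ext (RingHom.ext fun a => Subtype.ext ?_)
        exact congrArg (fun m : _ ⟶ Γ(_, E) => m.hom a) po.w)
    have hm : m ≫ CommRingCat.ofHom T.subtype = 𝟙 _ := by
      apply po.hom_ext
      · rw [IsPushout.inl_desc_assoc, Category.comp_id]; rfl
      · rw [IsPushout.inr_desc_assoc, Category.comp_id]; rfl
    rw [show x = (m ≫ CommRingCat.ofHom T.subtype) x by rw [hm]; rfl]
    exact (m x).2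
  obtain ⟨R, hR, h', rfl⟩ : h ∈ T := by rw [hT]; trivial
  refine ⟨_, hzh, ((pullback f (Spec.map (CommRingCat.ofHom (algebraMap k A)))).basicOpen _).isOpen, hh,
    R, hR, ((bcSub f R).basicOpen h' : Set ↥(bcSub f R)), ((bcSub f R).basicOpen h').isOpen,
    ((hW.preimage (q R)).basicOpen h').isCompact, ?_⟩
  rw [Scheme.basicOpen_appLE]
  ext w
  refine ⟨fun hw => ⟨?_, hw⟩, fun hw => hw.2⟩
  have : (toSub f R).base w ∈ q R ⁻¹ᵁ W := (bcSub f R).basicOpen_le h' hw
  change p w ∈ W
  rw [show p = toSub f R ≫ q R from (pullback.lift_fst _ _ _).symm]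
  exact this

theorem exists_descent (V : Set ↥(pullback f (Spec.map (CommRingCat.ofHom (algebraMap k A)))))
    (hV : IsOpen V) (hVc : IsCompact V) : Descends f V := by
  choose U hzU hUo hUV hU using fun z : V => exists_descends_mem f V hV z.1 z.2
  obtain ⟨t, ht⟩ := hVc.elim_finite_subcover U hUo fun z hz => Set.mem_iUnion.2 ⟨⟨z, hz⟩, hzU _⟩
  have e : V = ⋃ i ∈ t, U i := Set.Subset.antisymm ht (Set.iUnion₂_subset fun i _ => hUV i)
  rw [e]
  classical
  clear e ht
  induction t using Finset.induction with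
  | empty => exact ⟨⊥, Subalgebra.fg_bot, ∅, isOpen_empty, isCompact_empty, by simp⟩
  | insert a t _ ih =>
    rw [Finset.set_biUnion_insert]
    exact descends_union f (hU a) ih

end Groth.Agent.Var44
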