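import Mathlib.AlgebraicGeometry.IdealSheaf.Functorial
import Mathlib.AlgebraicGeometry.Morphisms.SchemeTheoreticallyDominant

/-!
The scheme-theoretic image of a product of morphisms over a field.
-/

set_option autoImplicit false
set_option linter.style.haveILetI false
set_option backward.isDefEq.respectTransparency false
set_option backward.isDefEq.respectTransparency.types false
universe u

open CategoryTheory CategoryTheory.Limits AlgebraicGeometry

namespace Groth.Agent.Var44

theorem eq_bot_of_map_le {Y Z : Scheme.{u}} (c : Z ⟶ Y) [IsClosedImmersion c]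
    (J : Z.IdealSheafData) (h : (J.subschemeι ≫ c).ker ≤ c.ker) : J = ⊥ := by
  have hk : (J.subschemeι ≫ c).ker = c.ker := le_antisymm h (Scheme.Hom.le_ker_comp _ _)
  haveI : IsIso J.subschemeι :=
    IsClosedImmersion.isIso_of_ker_eq (J.subschemeι ≫ c) c J.subschemeι (Eq.refl _) hk
  rw [← Scheme.IdealSheafData.ker_subschemeι J]
  exact Scheme.Hom.ker_eq_bot _

theorem ker_eq_bot_of_factor {X Y Z : Scheme.{u}} (t : X ⟶ Z) (c : Z ⟶ Y) [IsClosedImmersion c]
    (h : (t ≫ c).ker ≤ c.ker) : t.ker = ⊥ := by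
  refine eq_bot_of_map_le c t.ker (le_trans (le_of_eq ?_) h)
  rw [Scheme.Hom.ker_comp, Scheme.IdealSheafData.ker_subschemeι, Scheme.Hom.ker_comp]

theorem toImage_dominant {X Y : Scheme.{u}} (f : X ⟶ Y) [QuasiCompact f] :
    IsSchemeTheoreticallyDominant f.toImage := by
  refine ⟨ker_eq_bot_of_factor f.toImage f.imageι (le_of_eq ?_)⟩
  rw [Scheme.Hom.toImage_imageι]
  exact (Scheme.IdealSheafData.ker_subschemeι f.ker).symm

theorem ker_map {K : Type u} [Field K] {X Y A B : Scheme.{u}} (sX : X ⟶ Spec (CommRingCat.of K))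
    (sY : Y ⟶ Spec (CommRingCat.of K)) (sA : A ⟶ Spec (CommRingCat.of K)) (sB : B ⟶ Spec (CommRingCat.of K))
    (f : A ⟶ X) (hf : f ≫ sX = sA) [QuasiCompact f] (g : B ⟶ Y) (hg : g ≫ sY = sB) [QuasiCompact g]
    (F : pullback sA sB ⟶ pullback sX sY)
    (hF₁ : F ≫ pullback.fst sX sY = pullback.fst sA sB ≫ f)
    (hF₂ : F ≫ pullback.snd sX sY = pullback.snd sA sB ≫ g) :
    F.ker = f.ker.comap (pullback.fst sX sY) ⊔ g.ker.comap (pullback.snd sX sY) := by
  let i := f.imageι
  let j := g.imageι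
  let tA := f.toImage
  let tB := g.toImage
  have hA : tA ≫ i ≫ sX = sA := by rw [← Category.assoc, Scheme.Hom.toImage_imageι, hf]
  have hB : tB ≫ j ≫ sY = sB := by rw [← Category.assoc, Scheme.Hom.toImage_imageι, hg]
  let n₁ : pullback sA sB ⟶ pullback (i ≫ sX) sB :=
    pullback.map _ _ _ _ tA (𝟙 B) (𝟙 _) (by rw [hA, Category.comp_id]) (by simp)
  let n₂ : pullback (i ≫ sX) sB ⟶ pullback (i ≫ sX) (j ≫ sY) :=
    pullback.map _ _ _ _ (𝟙 _) tB (𝟙 _) (by simp) (by rw [hB, Category.comp_id])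
  let m : pullback (i ≫ sX) (j ≫ sY) ⟶ pullback sX sY :=
    pullback.map _ _ _ _ i j (𝟙 _) (by simp) (by simp)
  have hF : F = (n₁ ≫ n₂) ≫ m := by
    apply pullback.hom_ext
    · simp [hF₁, n₁, n₂, m, i, tA]
    · simp [hF₂, n₁, n₂, m, j, tB]
  have sq₁ : IsPullback (pullback.fst sA sB) n₁ tA (pullback.fst (i ≫ sX) sB) := by
    refine IsPullback.of_bot (h₁₁ := pullback.fst sA sB) ?_ (pullback.lift_fst _ _ _).symm
      (IsPullback.of_hasPullback (i ≫ sX) sB)
    rw [hA, show n₁ ≫ pullback.snd (i ≫ sX) sB = pullback.snd sA sB from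
      (pullback.lift_snd _ _ _).trans (Category.comp_id _)]
    exact IsPullback.of_hasPullback _ _
  have sq₂ : IsPullback (pullback.snd (i ≫ sX) sB) n₂ tB (pullback.snd (i ≫ sX) (j ≫ sY)) := by
    refine IsPullback.of_bot (h₁₁ := pullback.snd (i ≫ sX) sB) ?_ (pullback.lift_snd _ _ _).symm
      (IsPullback.of_hasPullback (i ≫ sX) (j ≫ sY)).flip
    rw [hB, show n₂ ≫ pullback.fst (i ≫ sX) (j ≫ sY) = pullback.fst (i ≫ sX) sB from
      (pullback.lift_fst _ _ _).trans (Category.comp_id _)]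
    exact (IsPullback.of_hasPullback _ _).flip
  haveI := toImage_dominant f
  haveI := toImage_dominant g
  haveI : Flat sB := inferInstance
  haveI : Flat (i ≫ sX) := inferInstance
  haveI : Flat (pullback.fst (i ≫ sX) sB) := MorphismProperty.pullback_fst _ _ inferInstance
  haveI : IsSchemeTheoreticallyDominant n₁ := IsSchemeTheoreticallyDominant.of_isPullback sq₁
  haveI : IsSchemeTheoreticallyDominant n₂ := IsSchemeTheoreticallyDominant.of_isPullback sq₂
  rw [hF, Scheme.Hom.ker_comp, (n₁ ≫ n₂).ker_eq_bot, Scheme.IdealSheafData.map_bot]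
  let I := i.ker.comap (pullback.fst sX sY) ⊔ j.ker.comap (pullback.snd sX sY)
  have hI : I = f.ker.comap (pullback.fst sX sY) ⊔ g.ker.comap (pullback.snd sX sY) := by
    simp only [I, i, j, Scheme.Hom.imageι, Scheme.IdealSheafData.ker_subschemeι]
  rw [← hI]
  apply le_antisymm
  · have h1 : i.ker ≤ (I.subschemeι ≫ pullback.fst sX sY).ker :=
      Scheme.IdealSheafData.le_map_iff_comap_le.2 le_sup_left
    have h2 : j.ker ≤ (I.subschemeι ≫ pullback.snd sX sY).ker :=
      Scheme.IdealSheafData.le_map_iff_comap_le.2 le_sup_right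
    let a := IsClosedImmersion.lift i _ h1
    let b := IsClosedImmersion.lift j _ h2
    have ha : a ≫ i = I.subschemeι ≫ pullback.fst sX sY := IsClosedImmersion.lift_fac _ _ _
    have hb : b ≫ j = I.subschemeι ≫ pullback.snd sX sY := IsClosedImmersion.lift_fac _ _ _
    have e : pullback.lift a b (by rw [reassoc_of% ha, reassoc_of% hb, pullback.condition]) ≫ m = I.subschemeι := by
      apply pullback.hom_ext
      · simp [m, ha]
      · simp [m, hb]
    calc m.ker ≤ _ := Scheme.Hom.le_ker_comp _ m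
      _ = I := by rw [e, Scheme.IdealSheafData.ker_subschemeι]
  · refine sup_le ?_ ?_
    · rw [← Scheme.IdealSheafData.le_map_iff_comap_le, Scheme.IdealSheafData.map_ker,
        show m ≫ pullback.fst sX sY = pullback.fst (i ≫ sX) (j ≫ sY) ≫ i from pullback.lift_fst _ _ _]
      exact Scheme.Hom.le_ker_comp _ _
    · rw [← Scheme.IdealSheafData.le_map_iff_comap_le, Scheme.IdealSheafData.map_ker,
        show m ≫ pullback.snd sX sY = pullback.snd (i ≫ sX) (j ≫ sY) ≫ j from pullback.lift_snd _ _ _]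
      exact Scheme.Hom.le_ker_comp _ _

end Groth.Agent.Var44
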