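import Mathlib.RingTheory.Smooth.StandardSmooth
import Mathlib.RingTheory.Kaehler.Basic
import Mathlib.RingTheory.LocalRing.ResidueField.Ideal
import Mathlib.RingTheory.FiniteType
import Mathlib.LinearAlgebra.Dimension.Constructions
import Mathlib.Algebra.MvPolynomial.Derivation
import Mathlib.LinearAlgebra.Matrix.Rank
import Mathlib.LinearAlgebra.Matrix.NonsingularInverse

/-!
Locally a finite type algebra is a quotient of a standard smooth one of the minimal relative dimension.
-/

set_option autoImplicit false
set_option linter.style.haveILetI false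
universe u

open scoped TensorProduct
open MvPolynomial

namespace Groth.Agent.Var44

variable {A B : Type u} [CommRing A] [CommRing B] [Algebra A B] {n : ℕ}
  (π : MvPolynomial (Fin n) A →ₐ[A] B) (q : Ideal B) [q.IsPrime]

/-- The gradient of a polynomial at a prime of the quotient. -/
noncomputable def grad (f : MvPolynomial (Fin n) A) : Fin n → q.ResidueField :=
  fun i => algebraMap B q.ResidueField (π (pderiv i f))

theorem grad_add (f g : MvPolynomial (Fin n) A) : grad π q (f + g) = grad π q f + grad π q g := by
  ext i
  simp [grad]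

theorem grad_mul (f g : MvPolynomial (Fin n) A) :
    grad π q (f * g) = π f • grad π q g + π g • grad π q f := by
  ext i
  simp [grad, Algebra.smul_def, map_add, map_mul]

theorem finrank_span_grad (hπ : Function.Surjective π) :
    Module.finrank q.ResidueField
        (Submodule.span q.ResidueField (grad π q '' {f | π f = 0})) +
      Module.finrank q.ResidueField (q.ResidueField ⊗[B] Ω[B⁄A]) = n := by
  classical
  let κ := q.ResidueField
  let W := Submodule.span κ (grad π q '' {f | π f = 0})
  let Φ : (Fin n → κ) →ₗ[κ] κ ⊗[B] Ω[B⁄A] :=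
    (Pi.basisFun κ (Fin n)).constr κ fun i => (1 : κ) ⊗ₜ[B] KaehlerDifferential.D A B (π (X i))
  have hgrad : ∀ f, Φ (grad π q f) = (1 : κ) ⊗ₜ[B] KaehlerDifferential.D A B (π f) := by
    intro f
    have e : KaehlerDifferential.D A B (π f) = ∑ i, π (pderiv i f) • KaehlerDifferential.D A B (π (X i)) := by
      induction f using MvPolynomial.induction_on with
      | C c => simp [← MvPolynomial.algebraMap_eq]
      | add f g hf hg =>
        simp only [map_add, hf, hg, add_smul, Finset.sum_add_distrib]
      | mul_X f i hf =>
        simp only [Derivation.leibniz, smul_eq_mul, map_mul, map_add, add_smul, Finset.sum_add_distrib,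
          hf, Finset.smul_sum, smul_smul, pderiv_X]
        congr 1
        rw [Finset.sum_eq_single i]
        · simp
        · intro j _ hj
          simp [Pi.single_eq_of_ne hj.symm]
        · simp
    rw [e, TensorProduct.tmul_sum]
    simp only [Φ, Module.Basis.constr_apply_fintype, Pi.basisFun_equivFun, LinearEquiv.refl_apply, grad]
    refine Finset.sum_congr rfl fun i _ => ?_
    rw [TensorProduct.smul_tmul', TensorProduct.tmul_smul, TensorProduct.smul_tmul', smul_eq_mul, mul_one,
      Algebra.smul_def, mul_one]
  have hsurj : Function.Surjective Φ := by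
    rw [← LinearMap.range_eq_top, eq_top_iff]
    intro t _
    induction t using TensorProduct.induction_on with
    | zero => exact zero_mem _
    | add a b ha hb => exact add_mem (ha trivial) (hb trivial)
    | tmul c ω =>
      have hω : ω ∈ Submodule.span B (Set.range (KaehlerDifferential.D A B)) := by
        rw [KaehlerDifferential.span_range_derivation]; trivial
      have h1 : ∀ ω ∈ Submodule.span B (Set.range (KaehlerDifferential.D A B)),
          (1 : κ) ⊗ₜ[B] ω ∈ LinearMap.range Φ := by
        intro ω hω
        induction hω using Submodule.span_induction with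
        | mem x hx =>
          obtain ⟨b, rfl⟩ := hx
          obtain ⟨f, rfl⟩ := hπ b
          exact ⟨_, hgrad f⟩
        | zero => simp
        | add x y _ _ hx hy => rw [TensorProduct.tmul_add]; exact add_mem hx hy
        | smul b x _ hx =>
          rw [TensorProduct.tmul_smul, ← algebraMap_smul κ b ((1 : κ) ⊗ₜ[B] x)]
          exact Submodule.smul_mem _ _ hx
      have := Submodule.smul_mem _ c (h1 ω hω)
      rwa [TensorProduct.smul_tmul', smul_eq_mul, mul_one] at this
  have hwd : ∀ f g, π f = π g → (W.mkQ (grad π q f) : (Fin n → κ) ⧸ W) = W.mkQ (grad π q g) := by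
    intro f g h
    rw [Submodule.mkQ_apply, Submodule.mkQ_apply, Submodule.Quotient.eq]
    have e : grad π q f - grad π q g = grad π q (f - g) := by
      ext i
      simp [grad]
    rw [e]
    exact Submodule.subset_span ⟨_, by simp [h], rfl⟩
  let s := Function.surjInv hπ
  have hs : ∀ b, π (s b) = b := Function.surjInv_eq hπ
  let δ : Derivation A B ((Fin n → κ) ⧸ W) := Derivation.mk'
    { toFun := fun b => W.mkQ (grad π q (s b))
      map_add' := fun a b => by
        rw [← map_add, ← grad_add]
        exact hwd _ _ (by simp [hs])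
      map_smul' := fun a b => by
        have e : grad π q (a • s b) = a • grad π q (s b) := by
          ext i
          change algebraMap B κ (π (pderiv i (a • s b))) = a • algebraMap B κ (π (pderiv i (s b)))
          rw [Derivation.map_smul, map_smul, Algebra.smul_def, Algebra.smul_def, map_mul,
            ← IsScalarTower.algebraMap_apply]
        rw [RingHom.id_apply, ← LinearMap.map_smul_of_tower, ← e]
        exact hwd _ _ (by simp [hs]) }
    (fun a b => by
      change W.mkQ (grad π q (s (a * b))) = a • W.mkQ (grad π q (s b)) + b • W.mkQ (grad π q (s a))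
      rw [← LinearMap.map_smul_of_tower, ← LinearMap.map_smul_of_tower, ← map_add,
        show a • grad π q (s b) + b • grad π q (s a) = grad π q (s a * s b) by rw [grad_mul, hs, hs]]
      exact hwd _ _ (by simp [hs]))
  let Ψ : κ ⊗[B] Ω[B⁄A] →ₗ[κ] (Fin n → κ) ⧸ W := δ.liftKaehlerDifferential.liftBaseChange κ
  have hΨ : Ψ.comp Φ = W.mkQ := by
    refine (Pi.basisFun κ (Fin n)).ext fun i => ?_
    rw [LinearMap.comp_apply, Module.Basis.constr_basis, LinearMap.liftBaseChange_tmul, one_smul,
      Derivation.liftKaehlerDifferential_comp_D]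
    change W.mkQ (grad π q (s (π (X i)))) = _
    rw [hwd _ (X i) (hs _)]
    congr 1
    ext j
    simp [grad, pderiv_X, Pi.single_apply, Pi.basisFun_apply, eq_comm, apply_ite π,
      apply_ite (algebraMap B κ)]
  have hker : LinearMap.ker Φ = W := by
    apply le_antisymm
    · intro v hv
      have : W.mkQ v = 0 := by rw [← hΨ, LinearMap.comp_apply, LinearMap.mem_ker.1 hv, map_zero]
      rwa [Submodule.mkQ_apply, Submodule.Quotient.mk_eq_zero] at this
    · rw [Submodule.span_le]
      rintro _ ⟨f, hf, rfl⟩
      rw [SetLike.mem_coe, LinearMap.mem_ker, hgrad, show π f = 0 from hf, map_zero, TensorProduct.tmul_zero]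
  have := LinearMap.finrank_range_add_finrank_ker Φ
  rw [hker, LinearMap.range_eq_top.2 hsurj, finrank_top, Module.finrank_pi, Fintype.card_fin] at this
  exact (add_comm _ _).trans this

theorem exists_smooth_cover [Algebra.FiniteType A B] (r : ℕ)
    (hr : Module.finrank q.ResidueField (q.ResidueField ⊗[B] Ω[B⁄A]) = r) :
    ∃ g : B, g ∉ q ∧ ∃ (D : Type u) (_ : CommRing D) (_ : Algebra A D),
      Algebra.IsStandardSmoothOfRelativeDimension r A D ∧
        ∃ φ : D →ₐ[A] Localization.Away g, Function.Surjective φ := by
  classical
  obtain ⟨n, π, hπ⟩ := Algebra.FiniteType.iff_quotient_mvPolynomial''.1 (inferInstance : Algebra.FiniteType A B)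
  let κ := q.ResidueField
  have hn := finrank_span_grad π q hπ
  rw [hr] at hn
  let W := Submodule.span κ (grad π q '' {f | π f = 0})
  obtain ⟨b, hbs, hsp, hli⟩ := exists_linearIndependent κ (grad π q '' {f | π f = 0})
  haveI : Finite b := hli.finite
  haveI := Fintype.ofFinite b
  have hcard : Fintype.card b = Module.finrank κ W := by
    rw [← finrank_span_eq_card hli, Subtype.range_coe, hsp]
  let m := Fintype.card b
  let e := Fintype.equivFin b
  choose f hf0 hf using fun j : b => hbs j.2
  let v : Fin m → MvPolynomial (Fin n) A := fun j => f (e.symm j)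
  let M : Matrix (Fin m) (Fin n) κ := Matrix.of fun j => grad π q (v j)
  have hM : LinearIndependent κ M.row := by
    have : M.row = ((↑) : b → Fin n → κ) ∘ e.symm := funext fun j => hf _
    rw [this]
    exact hli.comp _ e.symm.injective
  have hspan : Submodule.span κ (Set.range M.col) = ⊤ := by
    apply Submodule.eq_top_of_finrank_eq
    rw [← Matrix.rank_eq_finrank_span_cols, hM.rank_matrix, Module.finrank_pi]
  obtain ⟨c, hcs, hcsp, hcli⟩ := exists_linearIndependent κ (Set.range M.col)
  haveI : Finite c := hcli.finite
  haveI := Fintype.ofFinite c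
  have hc : Fintype.card c = m := by
    rw [← finrank_span_eq_card hcli, Subtype.range_coe, hcsp, hspan, finrank_top, Module.finrank_pi,
      Fintype.card_fin]
  let ec := (Fintype.equivFinOfCardEq hc).symm
  choose col hcol using fun i : c => hcs i.2
  let a : Fin m → Fin n := fun i => col (ec i)
  have ha : Function.Injective a := fun i j h => ec.injective (Subtype.ext ((hcol _).symm.trans
    ((congrArg M.col h).trans (hcol _))))
  let Δ : MvPolynomial (Fin n) A := (Matrix.of fun i j => pderiv (a i) (v j)).det
  have hΔ : π Δ ∉ q := by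
    intro h
    have h0 : algebraMap B κ (π Δ) = 0 := Ideal.algebraMap_residueField_eq_zero.2 h
    let N : Matrix (Fin m) (Fin m) κ := Matrix.of fun i j => M.col (a i) j
    have hN : LinearIndependent κ N.row := by
      have : N.row = ((↑) : c → Fin m → κ) ∘ ec := funext fun i => hcol _
      rw [this]
      exact hcli.comp _ ec.injective
    have hu := (Matrix.isUnit_iff_isUnit_det N).1 (Matrix.linearIndependent_rows_iff_isUnit.1 hN)
    have hd : N.det = algebraMap B κ (π Δ) := by
      change _ = ((algebraMap B κ).comp π.toRingHom) Δ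
      rw [RingHom.map_det]
      rfl
    rw [hd, h0] at hu
    exact not_isUnit_zero hu
  let I : Ideal (MvPolynomial (Fin n) A) := Ideal.span (Set.range v)
  let Q := MvPolynomial (Fin n) A ⧸ I
  let δ : Q := Ideal.Quotient.mk I Δ
  let D := Localization.Away δ
  let P₀ := Algebra.PreSubmersivePresentation.naive (v := v) a ha
  let P₁ := Algebra.PreSubmersivePresentation.localizationAway D δ
  have hP₀ : P₀.jacobian = δ := by
    rw [Algebra.PreSubmersivePresentation.jacobian_eq_jacobiMatrix_det]
    have : P₀.jacobiMatrix = Matrix.of fun i j => pderiv (a i) (v j) := by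
      ext i j
      simp [P₀]
    rw [this]
    rfl
  let P : Algebra.SubmersivePresentation A D (Unit ⊕ Fin n) (Unit ⊕ Fin m) :=
    { __ := P₁.comp P₀
      jacobian_isUnit := by
        rw [Algebra.PreSubmersivePresentation.comp_jacobian_eq_jacobian_smul_jacobian, Algebra.smul_def,
          IsUnit.mul_iff, hP₀, Algebra.PreSubmersivePresentation.localizationAway_jacobian]
        have := IsLocalization.map_units D (⟨δ, 1, by simp⟩ : Submonoid.powers δ)
        exact ⟨this, this⟩ }
  have hstd : Algebra.IsStandardSmoothOfRelativeDimension r A D := by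
    refine P.isStandardSmoothOfRelativeDimension ?_
    change Nat.card (Unit ⊕ Fin n) - Nat.card (Unit ⊕ Fin m) = r
    simp only [Nat.card_sum, Nat.card_fin, Nat.card_unique]
    have : m = Module.finrank κ W := hcard
    have hn' : Module.finrank κ W + r = n := hn
    omega
  let φ₀ : Q →ₐ[A] B := Ideal.Quotient.liftₐ I π (fun x hx => by
    induction hx using Submodule.span_induction with
    | mem x hx => obtain ⟨j, rfl⟩ := hx; exact hf0 _
    | zero => simp
    | add x y _ _ h1 h2 => simp [h1, h2]
    | smul c x _ h => simp [h])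
  have hφ₀ : Function.Surjective φ₀ := fun x => by
    obtain ⟨y, rfl⟩ := hπ x
    exact ⟨Ideal.Quotient.mk I y, rfl⟩
  refine ⟨π Δ, hΔ, D, inferInstance, inferInstance, hstd, ?_⟩
  let ψ := (IsScalarTower.toAlgHom A B (Localization.Away (π Δ))).comp φ₀
  let φ : D →ₐ[A] Localization.Away (π Δ) := IsLocalization.Away.liftAlgHom (x := δ) (f := ψ)
    (IsLocalization.Away.algebraMap_isUnit (S := Localization.Away (π Δ)) (π Δ))
  refine ⟨φ, fun z => ?_⟩
  obtain ⟨⟨x, _, k, rfl⟩, hz⟩ := IsLocalization.surj (Submonoid.powers (π Δ)) z
  obtain ⟨x', rfl⟩ := hφ₀ x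
  refine ⟨IsLocalization.mk' D x' (⟨δ ^ k, k, rfl⟩ : Submonoid.powers δ), ?_⟩
  have hu : IsUnit (algebraMap B (Localization.Away (π Δ)) (π Δ ^ k)) :=
    IsLocalization.map_units _ (⟨π Δ ^ k, k, rfl⟩ : Submonoid.powers (π Δ))
  refine hu.mul_left_injective ?_
  change φ _ * _ = z * _
  rw [hz]
  have hψ : ∀ y : Q, φ (algebraMap Q D y) = algebraMap B (Localization.Away (π Δ)) (φ₀ y) := fun y => by
    simp only [φ, IsLocalization.Away.liftAlgHom_apply, IsLocalization.Away.lift_eq]
    rfl
  have e : algebraMap B (Localization.Away (π Δ)) (π Δ ^ k) = φ (algebraMap Q D (δ ^ k)) := by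
    rw [hψ, map_pow φ₀]
    rfl
  rw [e, ← map_mul]
  exact (congrArg φ (IsLocalization.mk'_spec D x' (⟨δ ^ k, k, rfl⟩ : Submonoid.powers δ))).trans (hψ x')

end Groth.Agent.Var44
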